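import Cfsg.Agent.Coset.Fi23Loc.ZcCore
import Cfsg.Agent.Coset.Fi23Max.Data

/-! Checks on the orbit records of the members commuting with the subgroup of order three. -/

set_option autoImplicit false
set_option maxRecDepth 100000
set_option maxHeartbeats 1000000
set_option Elab.async false

namespace CfsgLib.Coset.Fi23.Max

open CfsgLib.Coset CfsgLib.Coset.Fi23.Loc CfsgLib.Coset.Fi23.Loc.Zc

local notation "Fi" => Cfsg.Spor.Fi23

/-- The record of a point. -/
noncomputable def info (p : Nat) : Nat :=
  Nat.land (Nat.shiftRight (infoLeaf (Nat.shiftRight p 8)) (Nat.mul 16 (Nat.land p 255))) 65535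

/-- The depth of a point in its tree. -/
noncomputable def dep (p : Nat) : Nat := Nat.land (info p) 255

/-- The generator leading towards the representative. -/
noncomputable def gix (p : Nat) : Nat := Nat.land (Nat.shiftRight (info p) 8) 7

/-- The orbit of a point. -/
noncomputable def lab (p : Nat) : Nat := Nat.shiftRight (info p) 11

/-- The words of the orbit generators. -/
def orbWs : List (List Nat) := orbG.map fun n => tauS (paths.getD n [])

/-- The word of a generator index. -/
noncomputable def gw (p : Nat) : List Nat := orbWs.getD (gix p) []

/-- A point is a representative or moves towards one inside its orbit. -/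
noncomputable def chk (p : Nat) : Bool :=
  cond (Nat.beq (dep p) 0) (cond (Nat.ble (Nat.add (lab p) 1) 6) (Nat.beq (reps.getD (lab p) 0) p) false)
    (cond (Nat.ble (Nat.add (dep (fp p (gw p))) 1) (dep p)) (Nat.beq (lab (fp p (gw p))) (lab p)) false)

/-- A range of points passes. -/
noncomputable def chkBlock (s : Nat) : Bool := allBlock 12 s fun i => cond (Nat.ble 31671 i) true (chk i)

theorem chk_0 : chkBlock 0 = true := by decide +kernel

theorem chk_1 : chkBlock 1 = true := by decide +kernel

theorem chk_2 : chkBlock 2 = true := by decide +kernel

theorem chk_3 : chkBlock 3 = true := by decide +kernel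

theorem chk_4 : chkBlock 4 = true := by decide +kernel

theorem chk_5 : chkBlock 5 = true := by decide +kernel

theorem chk_6 : chkBlock 6 = true := by decide +kernel

theorem chk_7 : chkBlock 7 = true := by decide +kernel

theorem repW_ok : checkLetters 10 repW = true := by decide +kernel

theorem orbG_lt : ∀ n ∈ orbG, n < 324 := by decide +kernel

theorem orbWs_ok : checkLetters 10 orbWs = true := by decide +kernel

/-- The point at which a first member sits. -/
theorem point_zero : Nat.beq (fp 0 (pathA ++ path 0 0)) 0 = true := by decide +kernel

theorem gW_ok : checkLetters 10 [gW, sW] = true := by decide +kernel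

theorem gW_x : same (gW ++ xw ++ gW.reverse) (Loc.rep xw 2) = true := by decide +kernel

theorem sW_x : same (sW ++ xw ++ sW.reverse) xw = true ∨ same (sW ++ xw ++ sW.reverse) (Loc.rep xw 2) = true := by
  decide +kernel

/-- The generator permutes the four short orbits in a cycle. -/
theorem cycle_check : ∀ i : Fin 4, lab (fp (reps.getD (i.val + 2) 0) gW) = [4, 2, 5, 3].getD i.val 0 := by
  decide +kernel

/-- A transposition of one orbit moves a point into another. -/
noncomputable def edgeOK (i b li j : Nat) : Bool :=
  cond (Nat.ble (Nat.add b 1) 31671)
    (cond (Nat.beq (lab b) li)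
      (cond (Nat.beq (fp 0 (repW.getD i [])) (reps.getD i 0)) (Nat.beq (lab (fp b (tauW (repW.getD i [])))) j) false)
      false) false

theorem edge_one : edgeOK 1 5 1 2 = true := by decide +kernel

theorem edge_two : edgeOK 2 37 4 1 = true := by decide +kernel

theorem reps_lt : ∀ i : Fin 6, reps.getD i.val 0 < 31671 := by decide +kernel

end CfsgLib.Coset.Fi23.Max
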