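import Cfsg.Agent.Coset.Fi23Loc.ZcCore
import Cfsg.Agent.Coset.Fi23Max.Data
import Cfsg.Agent.FGSB.ThreeCounts
import Mathlib.GroupTheory.Perm.Cycle.Type

/-!
The normaliser of a width four subgroup of order three in the presented Fi23 is a {2,3}-group: an element of a
larger prime order would fix a block of four classes and every vector of their twins, hence all eight coordinates.
-/

set_option autoImplicit false
set_option maxRecDepth 100000
set_option maxHeartbeats 1000000
set_option Elab.async false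

namespace CfsgLib.Coset.Fi23.Max

open CfsgLib.Coset CfsgLib.Coset.Fi23.Loc CfsgLib.Coset.Fi23.Loc.Zc
open scoped Matrix

local notation "Fi" => Cfsg.Spor.Fi23

/-! ### The classes -/

/-- The image of a class. -/
noncomputable def cls (g : N0) (k : Fin 36) : Fin 36 := (class_perm g.2 k).choose

theorem cls_spec (g : N0) (k : Fin 36) (a : Fin 9) : ∃ c, (g : Fi) * τ k a * (g : Fi)⁻¹ = τ (cls g k) c :=
  (class_perm g.2 k).choose_spec a

theorem cls_eq (g : N0) {k m : Fin 36} {a c : Fin 9} (h : (g : Fi) * τ k a * (g : Fi)⁻¹ = τ m c) :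
    cls g k = m := by
  obtain ⟨c', hc'⟩ := cls_spec g k a
  exact (τ_inj (hc'.symm.trans h)).1

theorem cls_one (k : Fin 36) : cls 1 k = k :=
  cls_eq 1 (show ((1 : N0) : Fi) * τ k 0 * ((1 : N0) : Fi)⁻¹ = τ k 0 by simp)

theorem cls_mul (g h : N0) (k : Fin 36) : cls (g * h) k = cls g (cls h k) := by
  obtain ⟨c, hc⟩ := cls_spec h k 0
  obtain ⟨c', hc'⟩ := cls_spec g (cls h k) c
  refine cls_eq (g * h) (a := 0) (c := c') ?_
  rw [← hc', ← hc, Subgroup.coe_mul]
  group

theorem cls_block (g : N0) {k q : Fin 36} (h : k.val / 4 = q.val / 4) :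
    (cls g k).val / 4 = (cls g q).val / 4 := by
  by_cases e : k = q
  · rw [e]
  obtain ⟨c, hc⟩ := cls_spec g k 0
  obtain ⟨c', hc'⟩ := cls_spec g q 0
  exact ((adj_transfer hc hc').mpr ⟨e, h⟩).2

/-- The first class of a block. -/
def head4 (B : Fin 9) : Fin 36 := ⟨4 * B.val, by omega⟩

/-- The image of a block. -/
noncomputable def blk (g : N0) (B : Fin 9) : Fin 9 := ⟨(cls g (head4 B)).val / 4, by omega⟩

theorem blk_one (B : Fin 9) : blk 1 B = B := Fin.ext (by simp only [blk, cls_one, head4]; omega)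

theorem blk_mul (g h : N0) (B : Fin 9) : blk (g * h) B = blk g (blk h B) := by
  refine Fin.ext ?_
  simp only [blk, cls_mul]
  refine cls_block g ?_
  simp only [head4]
  omega

/-- The action on the blocks. -/
noncomputable def blkHom : N0 →* Equiv.Perm (Fin 9) :=
  letI : MulAction N0 (Fin 9) := { smul := blk, one_smul := blk_one, mul_smul := blk_mul }
  MulAction.toPermHom N0 (Fin 9)

theorem blkHom_apply (g : N0) (B : Fin 9) : blkHom g B = blk g B := rfl

/-- The action on the classes. -/
noncomputable def clsHom : N0 →* Equiv.Perm (Fin 36) :=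
  letI : MulAction N0 (Fin 36) := { smul := cls, one_smul := cls_one, mul_smul := cls_mul }
  MulAction.toPermHom N0 (Fin 36)

theorem clsHom_apply (g : N0) (k : Fin 36) : clsHom g k = cls g k := rfl

/-! ### The twins -/

theorem tV_add : ∀ k : Fin 36, ∀ a c : Fin 9, ∃ e : Fin 9, tV k e = tV k a + tV k c := by decide +kernel

theorem tV_zero (k : Fin 36) : tV k 0 = 0 := by rw [tV, if_pos rfl]

/-- The twin vectors of a class. -/
def twinSpace (k : Fin 36) : AddSubgroup V8 where
  carrier := Set.range (tV k)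
  zero_mem' := ⟨0, tV_zero k⟩
  add_mem' := by
    rintro _ _ ⟨a, rfl⟩ ⟨c, rfl⟩
    exact tV_add k a c
  neg_mem' := by
    rintro _ ⟨a, rfl⟩
    obtain ⟨e, he⟩ := tV_add k a a
    refine ⟨e, he.trans (funext fun i => ?_)⟩
    have key : ∀ v : ZMod 3, v + v = -v := by decide
    exact key _

theorem card_twinSpace (k : Fin 36) : Nat.card (twinSpace k) = 9 := by
  show Nat.card (Set.range (tV k)) = 9
  rw [Nat.card_range_of_injective fun a c h => twin_inj k a c h, Nat.card_eq_fintype_card, Fintype.card_fin]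

theorem κ_twin (k : Fin 36) (a : Fin 9) : κ (τ k 0 * τ k a) = tV k a := by
  rw [κ, (twin0 k a).2, Matrix.vecMul_vecMul, s_inv.1, Matrix.vecMul_one]

theorem κ_pair (k : Fin 36) (a c : Fin 9) : κ (τ k a * τ k c) = tV k c - tV k a := by
  have h : κ (τ k 0 * τ k a) + κ (τ k a * τ k c) = κ (τ k 0 * τ k c) := by
    rw [← κ_mul (twin0 k a).1 (twin_mem k a c)]
    congr 1
    rw [← mul_assoc, mul_assoc (τ k 0), τ_sq, mul_one]
  rw [κ_twin, κ_twin] at h
  exact eq_sub_of_add_eq' h

/-- An element fixing a class preserves its twin vectors. -/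
theorem act_twin (g : N0) {k : Fin 36} (hk : cls g k = k) {v : V8} (hv : v ∈ twinSpace k) :
    act (g : Fi) v ∈ twinSpace k := by
  obtain ⟨a, rfl⟩ := hv
  obtain ⟨c, hc⟩ := cls_spec g k 0
  obtain ⟨c', hc'⟩ := cls_spec g k a
  rw [hk] at hc hc'
  have e : act (g : Fi) (tV k a) = tV k c' - tV k c := by
    rw [← κ_twin, ← act_κ g.2 (twin0 k a).1, ← κ_pair, ← hc, ← hc']
    congr 1
    group
  rw [e]
  exact sub_mem ⟨c', rfl⟩ ⟨c, rfl⟩

/-! ### Primes -/

/-- The matrix of spanning vectors of a block. -/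
def spanM (B : Fin 9) : Matrix (Fin 8) (Fin 8) (ZMod 3) :=
  Matrix.of fun i n => tV (Fin.ofNat 36 (4 * B.val + ((spanIdx.getD B.val []).getD n.val 0) / 9))
    (Fin.ofNat 9 ((spanIdx.getD B.val []).getD n.val 0)) i

theorem span_inv : ∀ B : Fin 9, spanM B * toM (spanInv.getD B.val []) = 1 := by decide +kernel

theorem span_block : ∀ B : Fin 9, ∀ n : Fin 8,
    ((Fin.ofNat 36 (4 * B.val + ((spanIdx.getD B.val []).getD n.val 0) / 9)) : Fin 36).val / 4 = B.val := by
  decide +kernel

theorem card_block : ∀ B : Fin 9, Fintype.card {k : Fin 36 // k.val / 4 = B.val} = 4 := by decide +kernel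

/-- A permutation of four points of order dividing a prime above four is trivial. -/
theorem perm_four {p : ℕ} [hp : Fact p.Prime] (h5 : 5 ≤ p) (σ : Equiv.Perm (Fin 4)) (h : σ ^ p = 1) : σ = 1 := by
  rcases (Nat.dvd_prime hp.out).mp (orderOf_dvd_of_pow_eq_one h) with e | e
  · exact orderOf_eq_one_iff.mp e
  · have h4 := orderOf_dvd_card (x := σ)
    rw [e, Fintype.card_perm, Fintype.card_fin] at h4
    have h24 : p ∣ 2 ^ 3 * 3 := h4
    rcases hp.out.dvd_mul.mp h24 with q | q
    · have := (Nat.prime_dvd_prime_iff_eq hp.out Nat.prime_two).mp (hp.out.dvd_of_dvd_pow q); omega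
    · have := (Nat.prime_dvd_prime_iff_eq hp.out Nat.prime_three).mp q; omega

theorem no_large_prime {p : ℕ} [hp : Fact p.Prime] (h5 : 5 ≤ p) (y : N0) : orderOf y ≠ p := by
  intro hy
  have hyp : y ^ p = 1 := hy ▸ pow_orderOf_eq_one y
  -- a fixed block
  have hnd : ¬ p ∣ 9 := by
    intro h
    have := (Nat.prime_dvd_prime_iff_eq hp.out Nat.prime_three).mp
      (hp.out.dvd_of_dvd_pow (show p ∣ 3 ^ 2 from h))
    omega
  obtain ⟨B, hB⟩ := Equiv.Perm.exists_fixed_point_of_prime (p := p) (n := 1) (σ := blkHom y)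
    (by rwa [Fintype.card_fin]) (by rw [pow_one, ← map_pow, hyp, map_one])
  -- the classes of the block are fixed
  have hin : ∀ k : Fin 36, k.val / 4 = B.val → (cls y k).val / 4 = B.val := fun k hk => by
    have e : (cls y k).val / 4 = (cls y (head4 B)).val / 4 :=
      cls_block y (by simp only [head4]; omega)
    rw [e]
    exact congrArg Fin.val hB
  have hfix : ∀ k : Fin 36, k.val / 4 = B.val → cls y k = k := by
    let σ : Equiv.Perm {k : Fin 36 // k.val / 4 = B.val} :=
      (clsHom y).subtypePerm fun k => ⟨fun hk => by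
        by_contra hne
        have h' : (cls y k).val / 4 = B.val := hk
        -- the inverse image of a class of the block is in it
        obtain ⟨k', hk', e⟩ : ∃ k', k'.val / 4 = B.val ∧ cls y k' = cls y k := by
          let f : {k : Fin 36 // k.val / 4 = B.val} → {k : Fin 36 // k.val / 4 = B.val} :=
            fun k => ⟨cls y k.1, hin k.1 k.2⟩
          have hf : Function.Injective f := fun u v h => Subtype.ext ((clsHom y).injective (congrArg Subtype.val h))
          obtain ⟨u, hu⟩ := Finite.surjective_of_injective hf ⟨cls y k, h'⟩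
          exact ⟨u.1, u.2, congrArg Subtype.val hu⟩
        exact hne ((clsHom y).injective e ▸ hk'), hin k⟩
    have hσ : σ ^ p = 1 := by
      refine Equiv.ext fun k => Subtype.ext ?_
      rw [Equiv.Perm.subtypePerm_pow]
      show ((clsHom y) ^ p) k.1 = k.1
      rw [← map_pow, hyp, map_one, Equiv.Perm.one_apply]
    have he : Fintype.card {k : Fin 36 // k.val / 4 = B.val} = 4 := card_block B
    let e4 := Fintype.equivFinOfCardEq he
    have h1 := perm_four (p := p) h5 (e4.permCongrHom σ) (by rw [← map_pow, hσ, map_one])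
    rw [MulEquiv.map_eq_one_iff] at h1
    intro k hk
    have := congrArg (fun τ : Equiv.Perm {k : Fin 36 // k.val / 4 = B.val} => ((τ ⟨k, hk⟩ : _) : Fin 36)) h1
    simpa [σ, clsHom_apply] using this
  -- the twin vectors of the block are fixed
  have htw : ∀ k : Fin 36, k.val / 4 = B.val → ∀ v ∈ twinSpace k, act (y : Fi) v = v := by
    intro k hk
    letI : MulAction (Subgroup.zpowers y) (twinSpace k) :=
      { smul := fun g v => ⟨act ((g : N0) : Fi) v.1, act_twin (g : N0) (by
          obtain ⟨i, hi⟩ := Subgroup.mem_zpowers_iff.mp g.2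
          have h1 : clsHom y k = k := hfix k hk
          show clsHom (g : N0) k = k
          rw [← hi, map_zpow]
          exact Equiv.Perm.zpow_apply_eq_self_of_apply_eq_self h1 i) v.2⟩
        one_smul := fun v => Subtype.ext (act_one v.1)
        mul_smul := fun g h v => Subtype.ext (act_mul (g : N0).2 (h : N0).2 v.1) }
    have hP : IsPGroup p (Subgroup.zpowers y) := IsPGroup.of_card (n := 1) (by rw [Nat.card_zpowers, hy, pow_one])
    have hmod := hP.card_modEq_card_fixedPoints (twinSpace k)
    let F : AddSubgroup V8 :=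
      { carrier := {v | v ∈ twinSpace k ∧ act (y : Fi) v = v}
        zero_mem' := ⟨zero_mem _, (actA y.2).map_zero⟩
        add_mem' := fun {u v} hu hv => ⟨add_mem hu.1 hv.1, by rw [act_add y.2, hu.2, hv.2]⟩
        neg_mem' := fun {u} hu => ⟨neg_mem hu.1, by
          rw [show act (y : Fi) (-u) = -act (y : Fi) u from (actA y.2).map_neg u, hu.2]⟩ }
    have hFle : F ≤ twinSpace k := fun v hv => hv.1
    have hcard : Nat.card (MulAction.fixedPoints (Subgroup.zpowers y) (twinSpace k)) = Nat.card F := by
      refine Nat.card_congr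
        { toFun := fun v => ⟨v.1.1, v.1.2, congrArg Subtype.val (v.2 ⟨y, Subgroup.mem_zpowers y⟩)⟩
          invFun := fun v => ⟨⟨v.1, v.2.1⟩, fun g => ?_⟩
          left_inv := fun _ => rfl
          right_inv := fun _ => rfl }
      classical
      obtain ⟨g, hg⟩ := g
      obtain ⟨n, -, rfl⟩ := Finset.mem_image.mp (mem_zpowers_iff_mem_range_orderOf.mp hg)
      refine Subtype.ext ?_
      show act (((y ^ n : N0)) : Fi) v.1 = v.1
      clear hg
      induction n with
      | zero => rw [pow_zero]; exact act_one v.1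
      | succ n ih => rw [pow_succ, Subgroup.coe_mul, act_mul (y ^ n).2 y.2, v.2.2, ih]
    rw [card_twinSpace, hcard] at hmod
    have hd : Nat.card F ∣ 3 ^ 2 := by
      have := AddSubgroup.card_dvd_of_le hFle
      rwa [card_twinSpace] at this
    obtain ⟨i, hi, e⟩ := (Nat.dvd_prime_pow Nat.prime_three).mp hd
    have hle : Nat.card F ≤ 9 := Nat.le_of_dvd (by norm_num) (by simpa using hd)
    have hdvd : p ∣ 9 - Nat.card F := (Nat.modEq_iff_dvd' hle).mp hmod.symm
    have hF9 : Nat.card F = 9 := by
      by_contra hne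
      have hp2 : ¬ p ∣ 8 := fun h => by
        have := (Nat.prime_dvd_prime_iff_eq hp.out Nat.prime_two).mp
          (hp.out.dvd_of_dvd_pow (show p ∣ 2 ^ 3 from h))
        omega
      have hp6 : ¬ p ∣ 6 := fun h => by
        rcases hp.out.dvd_mul.mp (show p ∣ 2 * 3 from h) with q | q
        · have := (Nat.prime_dvd_prime_iff_eq hp.out Nat.prime_two).mp q; omega
        · have := (Nat.prime_dvd_prime_iff_eq hp.out Nat.prime_three).mp q; omega
      interval_cases i
      · rw [e] at hdvd; exact hp2 hdvd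
      · rw [e] at hdvd; exact hp6 hdvd
      · exact hne e
    have hEq : F = twinSpace k := AddSubgroup.eq_of_le_of_card_ge hFle (by rw [card_twinSpace, hF9])
    intro v hv
    rw [← hEq] at hv
    exact hv.2
  -- all vectors are fixed
  have hall : ∀ v : V8, act (y : Fi) v = v := by
    intro v
    have hv : v = spanM B *ᵥ (toM (spanInv.getD B.val []) *ᵥ v) := by
      rw [Matrix.mulVec_mulVec, span_inv, Matrix.one_mulVec]
    set u := toM (m := 8) (n := 8) (spanInv.getD B.val []) *ᵥ v
    have hsum : spanM B *ᵥ u = ∑ n, (u n).val • fun i => spanM B i n := by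
      funext i
      rw [Finset.sum_apply]
      show ∑ n, spanM B i n * u n = _
      refine Finset.sum_congr rfl fun n _ => ?_
      show spanM B i n * u n = (u n).val • spanM B i n
      rw [nsmul_eq_mul, ZMod.natCast_zmod_val, mul_comm]
    rw [hv, hsum, show act (y : Fi) = ⇑(actA y.2) from rfl, map_sum]
    refine Finset.sum_congr rfl fun n _ => ?_
    rw [map_nsmul]
    exact congrArg ((u n).val • ·) (htw _ (span_block B n) _ ⟨_, rfl⟩)
  -- so the element lies in the extraspecial group
  have hQ : (y : Fi) ∈ Q0 := by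
    have hex : ∀ i, ∃ c : ZMod 3, (y : Fi) * b i * (y : Fi)⁻¹ = xp c * b i := fun i => by
      have hm : (y : Fi) * b i * (y : Fi)⁻¹ ∈ Q0 := Q_normal y.2 (Subgroup.subset_closure ⟨i, rfl⟩)
      have hκ := hall (Pi.single i 1)
      rw [act, vpow_single_b] at hκ
      have hs := split_mod hm
      rw [hκ, vpow_single_b] at hs
      obtain ⟨m, hm'⟩ := hs
      refine ⟨(m : ZMod 3), ?_⟩
      have hb : (y : Fi) * b i * (y : Fi)⁻¹ = b i * xe ^ m := by
        rw [show xe ^ m = (b i)⁻¹ * ((y : Fi) * b i * (y : Fi)⁻¹) from hm', mul_inv_cancel_left]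
      rw [hb, ((x_b i).zpow_left m).eq.symm, xp, ← zpow_natCast, ZMod.val_intCast]
      have := zpow_mod_orderOf xe m
      rw [orderOf_x] at this
      exact congrArg (· * b i) this.symm
    choose c hc using hex
    set q := vpow b (c ᵥ* siM)
    have hχ : χ q = c := by rw [χ_vpow, Matrix.vecMul_vecMul, s_inv.2, Matrix.vecMul_one]
    have hqg : q⁻¹ * (y : Fi) ∈ X0 := centralizer_Q fun i => by
      have h1 := χ_spec (vpow_mem (c ᵥ* siM)) i
      rw [hχ, ← hc i] at h1
      show q⁻¹ * (y : Fi) * b i = b i * (q⁻¹ * (y : Fi))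
      calc q⁻¹ * (y : Fi) * b i = q⁻¹ * ((y : Fi) * b i * (y : Fi)⁻¹) * (y : Fi) := by group
        _ = q⁻¹ * (q * b i * q⁻¹) * (y : Fi) := by rw [h1]
        _ = b i * (q⁻¹ * (y : Fi)) := by group
    have := mul_mem (vpow_mem (c ᵥ* siM)) (X0_le_Q hqg)
    rwa [mul_inv_cancel_left] at this
  have h3 : p ∣ 3 ^ 9 := by
    have := Subgroup.orderOf_dvd_natCard Q0 hQ
    rwa [card_Q, Subgroup.orderOf_coe, hy] at this
  have := (Nat.prime_dvd_prime_iff_eq hp.out Nat.prime_three).mp (hp.out.dvd_of_dvd_pow h3)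
  omega

/-- The normaliser is solvable. -/
theorem N0_isSolvable : Group.IsSolvable N0 := by
  classical
  refine CfsgLib.ThreeCounts.isSolvable_of_primeFactors_le ?_
  have hsub : (Nat.card N0).primeFactors ⊆ {2, 3} := by
    intro p hp
    obtain ⟨hpr, hdvd, -⟩ := Nat.mem_primeFactors.mp hp
    haveI := Fact.mk hpr
    rw [Finset.mem_insert, Finset.mem_singleton]
    by_contra hne
    push Not at hne
    have h5 : 5 ≤ p := by
      have h4 : p ≠ 4 := fun e => absurd (e ▸ hpr) (by norm_num)
      have := hpr.two_le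
      omega
    obtain ⟨y, hy⟩ := exists_prime_orderOf_dvd_card' p hdvd
    exact no_large_prime h5 y hy
  exact (Finset.card_le_card hsub).trans (by decide)

end CfsgLib.Coset.Fi23.Max
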