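import Cfsg.Agent.Coset.Fi23Max.Orbits
import Cfsg.Agent.Coset.Fi23Max.Solvable

/-!
The normaliser of a width four subgroup of order three in the presented Fi23 has derived length ten: a witness
program reaches an element inverting the extraspecial group modulo its centre in the seventh derived subgroup.
-/

set_option autoImplicit false
set_option maxRecDepth 100000
set_option maxHeartbeats 1000000
set_option Elab.async false

namespace CfsgLib.Coset.Fi23.Max

open CfsgLib.Coset CfsgLib.Coset.Fi23.Loc CfsgLib.Coset.Fi23.Loc.Zc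
open scoped Matrix

local notation "Fi" => Cfsg.Spor.Fi23

/-- A matrix of the program. -/
def pA (i : Nat) : Matrix (Fin 8) (Fin 8) (ZMod 3) := toM (progM.getD i [])

/-- Its inverse. -/
def pI (i : Nat) : Matrix (Fin 8) (Fin 8) (ZMod 3) := toM (progI.getD i [])

/-- The word of a generator carries each member of the basis to the member given by the matrix. -/
theorem act_word {w : List Nat} {M : Matrix (Fin 8) (Fin 8) (ZMod 3)} {c : Fin 8 → ZMod 3} (hw : ev Lg w ∈ N0)
    (h : ∀ j, same (w ++ bW j ++ w.reverse) (qW (c j) (fun i => M i j)) = true) (u : V8) :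
    act (ev Lg w) u = M *ᵥ u := by
  have hs : ∀ j, act (ev Lg w) (Pi.single j 1) = M *ᵥ Pi.single j 1 := fun j => by
    have e := eq_of_same (h j)
    rw [ev_append, ev_append, ev_reverse, ev_qW] at e
    rw [act, vpow_single_b, b, e, κ_mul (X0_le_Q (xp_mem _)) (vpow_mem _), κ_xp, κ_vpow, zero_add,
      Matrix.mulVec_single_one]
    rfl
  have hu : u = ∑ j, (u j).val • Pi.single j (1 : ZMod 3) := by
    rw [Finset.sum_congr rfl fun j _ => (zmod3_smul (u j) (Pi.single j (1 : ZMod 3) : V8)).symm]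
    funext i
    rw [Finset.sum_apply]
    simp [Pi.single_apply]
  conv_lhs => rw [show act (ev Lg w) = ⇑(actA hw) from rfl, hu, map_sum]
  conv_rhs => rw [hu, Matrix.mulVec_sum]
  refine Finset.sum_congr rfl fun j _ => ?_
  rw [map_nsmul, Matrix.mulVec_smul]
  exact congrArg _ (hs j)

theorem g_check : ∀ j : Fin 8,
    same (gW ++ bW j ++ gW.reverse) (qW ((gC.getD j.val 0 : Nat) : ZMod 3) (fun i => pA 0 i j)) = true := by
  decide +kernel

theorem s_check : ∀ j : Fin 8,
    same (sW ++ bW j ++ sW.reverse) (qW ((sC.getD j.val 0 : Nat) : ZMod 3) (fun i => pA 1 i j)) = true := by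
  decide +kernel

theorem inv_check : ∀ i : Fin 22, pA i.val * pI i.val = 1 := by decide +kernel

/-- The recipes of the program: products of the two generators and commutators of earlier entries. -/
def recipe : List (Nat × Nat × Nat) :=
  [(3,1,2),(4,2,0),(5,0,2),(6,4,3),(7,3,4),(8,5,3),(9,3,5),(10,8,6),(11,7,9),(12,9,6),(13,11,12),(14,11,10),
    (15,10,12),(16,13,14),(17,15,13),(18,15,14),(19,16,17),(20,17,18),(21,19,20)]

theorem recipe_check : ∀ n : Fin 19, (pA (recipe.getD n.val (0,0,0)).2.1 * pA (recipe.getD n.val (0,0,0)).2.2 *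
    pI (recipe.getD n.val (0,0,0)).2.1 * pI (recipe.getD n.val (0,0,0)).2.2 =
      pA (recipe.getD n.val (0,0,0)).1) := by decide +kernel

theorem mul_check : pA 0 * pA 1 = pA 2 := by decide +kernel

theorem neg_check : pA 21 = -1 := by decide +kernel

/-- A matrix realised inside a derived subgroup. -/
def Lv (k : ℕ) (A : Matrix (Fin 8) (Fin 8) (ZMod 3)) : Prop :=
  ∃ n : N0, n ∈ derivedSeries N0 k ∧ ∀ u, act (n : Fi) u = A *ᵥ u

theorem lv_base {w : List Nat} {i : Nat} {c : Fin 8 → ZMod 3} (hw : ev Lg w ∈ N0)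
    (h : ∀ j, same (w ++ bW j ++ w.reverse) (qW (c j) (fun l => pA i l j)) = true) : Lv 0 (pA i) :=
  ⟨⟨_, hw⟩, Subgroup.mem_top _, act_word hw h⟩

theorem act_inv {n : N0} {A B : Matrix (Fin 8) (Fin 8) (ZMod 3)} (h : A * B = 1)
    (hn : ∀ u, act (n : Fi) u = A *ᵥ u) (u : V8) : act ((n⁻¹ : N0) : Fi) u = B *ᵥ u := by
  have e := act_mul n.2 (n⁻¹).2 u
  rw [← Subgroup.coe_mul, mul_inv_cancel, Subgroup.coe_one, act_one, hn] at e
  have e' := congrArg (B *ᵥ ·) e.symm
  rwa [Matrix.mulVec_mulVec, mul_eq_one_comm.mp h, Matrix.one_mulVec] at e'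

theorem lv_com {k : ℕ} {A B A' B' : Matrix (Fin 8) (Fin 8) (ZMod 3)} (hA : Lv k A) (hB : Lv k B)
    (ha : A * A' = 1) (hb : B * B' = 1) : Lv (k + 1) (A * B * A' * B') := by
  obtain ⟨n, hn, hnA⟩ := hA
  obtain ⟨m, hm, hmB⟩ := hB
  refine ⟨n * m * n⁻¹ * m⁻¹, ?_, fun u => ?_⟩
  · rw [derivedSeries_succ]
    exact Subgroup.commutator_mem_commutator hn hm
  · rw [Subgroup.coe_mul, act_mul (n * m * n⁻¹).2 (m⁻¹).2, Subgroup.coe_mul, act_mul (n * m).2 (n⁻¹).2,
      Subgroup.coe_mul, act_mul n.2 m.2, act_inv hb hmB, act_inv ha hnA, hmB, hnA]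
    simp only [Matrix.mulVec_mulVec, Matrix.mul_assoc]

theorem lv_step {k : ℕ} (n : Fin 19) (hi : (recipe.getD n.val (0,0,0)).2.1 < 22)
    (hj : (recipe.getD n.val (0,0,0)).2.2 < 22) (hA : Lv k (pA (recipe.getD n.val (0,0,0)).2.1))
    (hB : Lv k (pA (recipe.getD n.val (0,0,0)).2.2)) : Lv (k + 1) (pA (recipe.getD n.val (0,0,0)).1) :=
  recipe_check n ▸ lv_com hA hB (inv_check ⟨_, hi⟩) (inv_check ⟨_, hj⟩)

/-- Some element of the seventh derived subgroup inverts the coordinates. -/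
theorem lv_neg : Lv 7 (-1) := by
  have p0 : Lv 0 (pA 0) := lv_base gW_mem g_check
  have p1 : Lv 0 (pA 1) := lv_base sW_mem s_check
  have p2 : Lv 0 (pA 2) := by
    obtain ⟨n, -, hn⟩ := p0
    obtain ⟨m, -, hm⟩ := p1
    refine ⟨n * m, Subgroup.mem_top _, fun u => ?_⟩
    rw [Subgroup.coe_mul, act_mul n.2 m.2, hm, hn, Matrix.mulVec_mulVec, mul_check]
  have p3 : Lv 1 (pA 3) := lv_step 0 (by decide) (by decide) p1 p2
  have p4 : Lv 1 (pA 4) := lv_step 1 (by decide) (by decide) p2 p0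
  have p5 : Lv 1 (pA 5) := lv_step 2 (by decide) (by decide) p0 p2
  have p6 : Lv 2 (pA 6) := lv_step 3 (by decide) (by decide) p4 p3
  have p7 : Lv 2 (pA 7) := lv_step 4 (by decide) (by decide) p3 p4
  have p8 : Lv 2 (pA 8) := lv_step 5 (by decide) (by decide) p5 p3
  have p9 : Lv 2 (pA 9) := lv_step 6 (by decide) (by decide) p3 p5
  have p10 : Lv 3 (pA 10) := lv_step 7 (by decide) (by decide) p8 p6
  have p11 : Lv 3 (pA 11) := lv_step 8 (by decide) (by decide) p7 p9
  have p12 : Lv 3 (pA 12) := lv_step 9 (by decide) (by decide) p9 p6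
  have p13 : Lv 4 (pA 13) := lv_step 10 (by decide) (by decide) p11 p12
  have p14 : Lv 4 (pA 14) := lv_step 11 (by decide) (by decide) p11 p10
  have p15 : Lv 4 (pA 15) := lv_step 12 (by decide) (by decide) p10 p12
  have p16 : Lv 5 (pA 16) := lv_step 13 (by decide) (by decide) p13 p14
  have p17 : Lv 5 (pA 17) := lv_step 14 (by decide) (by decide) p15 p13
  have p18 : Lv 5 (pA 18) := lv_step 15 (by decide) (by decide) p15 p14
  have p19 : Lv 6 (pA 19) := lv_step 16 (by decide) (by decide) p16 p17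
  have p20 : Lv 6 (pA 20) := lv_step 17 (by decide) (by decide) p17 p18
  have p21 : Lv 7 (pA 21) := lv_step 18 (by decide) (by decide) p19 p20
  exact neg_check ▸ p21

/-- The extraspecial group lies in the derived subgroups through the eighth. -/
theorem Q_le_derived : ∀ j ≤ 8, Q0.subgroupOf N0 ≤ derivedSeries N0 j := by
  intro j
  induction j with
  | zero => exact fun _ => le_top
  | succ j ih =>
    intro hj q hq
    obtain ⟨n, hn, hneg⟩ := lv_neg
    have hn' : n ∈ derivedSeries N0 j := derivedSeries_antitone _ (by omega) hn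
    -- every vector of coordinates is met
    have hall : ∀ u : V8, ∃ r : N0, r ∈ derivedSeries N0 (j + 1) ∧ (r : Fi) ∈ Q0 ∧ κ (r : Fi) = u := by
      intro u
      set p : N0 := ⟨vpow b (-u), Q_le_N0 (vpow_mem _)⟩
      have hp : p ∈ derivedSeries N0 j := ih (by omega) (show (p : Fi) ∈ Q0 from vpow_mem _)
      have hc : (n : Fi) * (vpow b (-u))⁻¹ * (n : Fi)⁻¹ ∈ Q0 := Q_normal n.2 (inv_mem (vpow_mem _))
      have e : ((p * n * p⁻¹ * n⁻¹ : N0) : Fi) = vpow b (-u) * ((n : Fi) * (vpow b (-u))⁻¹ * (n : Fi)⁻¹) := by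
        simp only [Subgroup.coe_mul, Subgroup.coe_inv, p, mul_assoc]
      refine ⟨p * n * p⁻¹ * n⁻¹, ?_, e ▸ mul_mem (vpow_mem _) hc, ?_⟩
      · rw [derivedSeries_succ]
        exact Subgroup.commutator_mem_commutator hp hn'
      · have hi : κ (vpow b (-u))⁻¹ = u := by
          have := κ_mul (inv_mem (vpow_mem (-u))) (vpow_mem (-u))
          rw [inv_mul_cancel, κ_one, κ_vpow] at this
          exact add_neg_eq_zero.mp this.symm
        rw [e, κ_mul (vpow_mem _) hc, act_κ n.2 (inv_mem (vpow_mem _)), hi, hneg, κ_vpow, Matrix.neg_mulVec,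
          Matrix.one_mulVec]
        funext i
        have key : ∀ v : ZMod 3, -v + -v = v := by decide
        exact key _
    -- the centre is met
    have hcent : X0.subgroupOf N0 ≤ derivedSeries N0 (j + 1) := by
      obtain ⟨r, hr, hrQ, hrκ⟩ := hall (Pi.single 0 1)
      obtain ⟨s, hs, hsQ, hsκ⟩ := hall (Pi.single 3 1)
      have hrb := split_mod hrQ
      have hsb := split_mod hsQ
      rw [hrκ, vpow_single_b] at hrb
      rw [hsκ, vpow_single_b] at hsb
      obtain ⟨m, hm⟩ := hrb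
      obtain ⟨l, hl⟩ := hsb
      have hr' : (r : Fi) = b 0 * xe ^ m := by rw [show xe ^ m = (b 0)⁻¹ * (r : Fi) from hm, mul_inv_cancel_left]
      have hs' : (s : Fi) = b 3 * xe ^ l := by rw [show xe ^ l = (b 3)⁻¹ * (s : Fi) from hl, mul_inv_cancel_left]
      have e : ((r * s * r⁻¹ * s⁻¹ : N0) : Fi) = xp (sM 0 3) := by
        have h := b_b 0 3
        have c1 : ∀ k : ℤ, ∀ i, Commute (xe ^ k) (b i) := fun k i => (x_b i).zpow_left k
        calc ((r * s * r⁻¹ * s⁻¹ : N0) : Fi)
            = b 0 * xe ^ m * (b 3 * xe ^ l) * (b 0 * xe ^ m)⁻¹ * (b 3 * xe ^ l)⁻¹ := by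
              simp only [Subgroup.coe_mul, Subgroup.coe_inv, hr', hs']
          _ = b 0 * (xe ^ m * b 3) * (xe ^ l * xe ^ (-m)) * (b 0)⁻¹ * xe ^ (-l) * (b 3)⁻¹ := by group
          _ = b 0 * b 3 * (xe ^ m * (xe ^ l * xe ^ (-m))) * (b 0)⁻¹ * xe ^ (-l) * (b 3)⁻¹ := by
              rw [(c1 m 3).eq]; group
          _ = b 0 * b 3 * (xe ^ l * (b 0)⁻¹) * xe ^ (-l) * (b 3)⁻¹ := by group
          _ = b 0 * b 3 * (b 0)⁻¹ * (b 3)⁻¹ := by rw [((c1 l 0).inv_right).eq]; group
          _ = xp (sM 0 3) := by rw [h, mul_inv_cancel_right]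
      have hne : sM 0 3 ≠ 0 := by decide +kernel
      intro z hz
      have hgen : Subgroup.zpowers (xp (sM 0 3)) = X0 := by
        refine Subgroup.eq_of_le_of_card_ge (Subgroup.zpowers_le.mpr (xp_mem _)) ?_
        rw [card_X0]
        have hd := Subgroup.card_dvd_of_le (Subgroup.zpowers_le.mpr (xp_mem (sM 0 3)))
        rw [card_X0] at hd
        rcases (Nat.dvd_prime Nat.prime_three).mp hd with h1 | h3
        · rw [Nat.card_zpowers, orderOf_eq_one_iff, ← xp_zero] at h1
          exact absurd (xp_inj h1) hne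
        · exact h3.ge
      obtain ⟨k, hk⟩ : (z : Fi) ∈ Subgroup.zpowers (xp (sM 0 3)) := hgen ▸ hz
      have : z = (r * s * r⁻¹ * s⁻¹) ^ k := Subtype.ext (by rw [Subgroup.coe_zpow, e]; exact hk.symm)
      rw [this]
      exact zpow_mem (mul_mem (mul_mem (mul_mem hr hs) (inv_mem hr)) (inv_mem hs)) k
    obtain ⟨r, hr, hrQ, hrκ⟩ := hall (κ (q : Fi))
    have hd : r⁻¹ * q ∈ X0.subgroupOf N0 := by
      rw [Subgroup.mem_subgroupOf, Subgroup.coe_mul, Subgroup.coe_inv]
      have hq' : (q : Fi) ∈ Q0 := hq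
      refine mem_X0_of_κ (mul_mem (inv_mem hrQ) hq') ?_
      have := κ_mul (inv_mem hrQ) hrQ
      rw [inv_mul_cancel, κ_one] at this
      rw [κ_mul (inv_mem hrQ) hq', ← hrκ]
      exact this.symm
    simpa using mul_mem hr (hcent hd)

/-- The ninth derived subgroup of the normaliser is not perfect. -/
theorem derived_ten_ne : derivedSeries N0 10 ≠ derivedSeries N0 9 := by
  intro h
  have hst : ∀ m, derivedSeries N0 (9 + m) = derivedSeries N0 9 := by
    intro m
    induction m with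
    | zero => rfl
    | succ m ih => rw [← add_assoc, derivedSeries_succ, ih, ← derivedSeries_succ, h]
  obtain ⟨n, hn⟩ := (N0_isSolvable).solvable
  have hbot : derivedSeries N0 9 = ⊥ :=
    le_bot_iff.mp ((hst n).symm.le.trans ((derivedSeries_antitone _ (Nat.le_add_left n 9)).trans hn.le))
  have hb : ∀ i, (⟨b i, Q_le_N0 (Subgroup.subset_closure ⟨i, rfl⟩)⟩ : N0) ∈ derivedSeries N0 8 := fun i =>
    Q_le_derived 8 le_rfl (show b i ∈ Q0 from Subgroup.subset_closure ⟨i, rfl⟩)
  have hmem := Subgroup.commutator_mem_commutator (hb 0) (hb 3)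
  rw [← derivedSeries_succ, hbot, Subgroup.mem_bot] at hmem
  have e : b 0 * b 3 * (b 0)⁻¹ * (b 3)⁻¹ = 1 := congrArg Subtype.val hmem
  rw [b_b, mul_inv_cancel_right, ← xp_zero] at e
  have h4 : sM 0 3 ≠ 0 := by decide +kernel
  exact h4 (xp_inj e)

end CfsgLib.Coset.Fi23.Max
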