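import Cfsg.Agent.Coset.Fi23Loc.ZcCore
import Cfsg.Agent.Coset.Fi23Max.Checks

/-!
The normaliser of a width four subgroup of order three is maximal in the presented Fi23: a larger subgroup
contains, up to the orbits of the members commuting with the subgroup, the whole class of transpositions.
-/

set_option autoImplicit false
set_option maxRecDepth 100000
set_option maxHeartbeats 1000000
set_option Elab.async false

namespace CfsgLib.Coset.Fi23.Max

open CfsgLib.Coset CfsgLib.Coset.Fi23.Loc CfsgLib.Coset.Fi23.Loc.Zc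

local notation "Fi" => Cfsg.Spor.Fi23

/-- Every point passes. -/
theorem chk_all (p : Nat) (hp : p < 31671) : chk p = true := by
  obtain ⟨s, hs⟩ : ∃ s, s = p / 4096 := ⟨_, rfl⟩
  have hb : chkBlock s = true := by
    have h : s < 8 := by omega
    interval_cases s
    exacts [chk_0, chk_1, chk_2, chk_3, chk_4, chk_5, chk_6, chk_7]
  unfold chkBlock at hb
  have e : (2 : Nat) ^ 12 = 4096 := by norm_num
  have h := allBlock_iff 12 s (fun i => cond (Nat.ble 31671 i) true (chk i)) hb p (by rw [e]; omega) (by rw [e]; omega)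
  have hf : Nat.ble 31671 p = false := by rw [← Bool.not_eq_true, Nat.ble_eq]; omega
  simp only [hf, cond_false] at h
  exact h

theorem okW_gw (p : Nat) : okW (gw p) := fun l hl => len_Lg.symm ▸ letters_getD orbWs_ok (gix p) l hl

theorem gw_commute (p : Nat) : Commute xe (ev Lg (gw p)) := by
  rw [gw]
  rcases lt_or_ge (gix p) orbWs.length with h | h
  · rw [List.getD_eq_getElem _ _ h]
    obtain ⟨n, hn, e⟩ := List.mem_map.mp (List.getElem_mem h)
    have hn' := orbG_lt n hn
    rw [← e]
    have := τ_x ⟨n / 9, by omega⟩ ⟨n % 9, by omega⟩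
    rw [τ, mem0, path] at this
    simpa only [Nat.div_add_mod] using this
  · rw [List.getD_eq_default _ _ h, ev_nil]
    exact Commute.one_right _

/-- Some transposition at the point lies in the subgroup. -/
def InX (X : Subgroup Fi) (p : Nat) : Prop := ∃ w, okW w ∧ fp 0 w = p ∧ tau w ∈ X

variable {X : Subgroup Fi}

theorem InX.tau_mem' {p : Nat} (h : InX X p) {w : List Nat} (hw : okW w) (e : fp 0 w = p) : tau w ∈ X := by
  obtain ⟨v, hv, hp, hX⟩ := h
  rwa [(tau_eq_word hw hv).mpr (e.trans hp.symm)]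

theorem InX.move {p : Nat} (h : InX X p) {v : List Nat} (hv : okW v) (hX : ev Lg v ∈ X) :
    InX X (fp p v) := by
  obtain ⟨w, hw, rfl, hw'⟩ := h
  refine ⟨w ++ v, okW_append hw hv, fp_append _ _ _, ?_⟩
  have e : tau (w ++ v) = (ev Lg v)⁻¹ * tau w * ev Lg v := by
    rw [tau_eq, tau_eq, ev_append]
    group
  rw [e]
  exact mul_mem (mul_mem (inv_mem hX) hw') hX

theorem fp_lt {p : Nat} (hp : p < 31671) {v : List Nat} (hv : okW v) : fp p v < 31671 := by
  rw [← inv_apply_ev hv ⟨p, hp⟩]
  exact Fin.is_lt _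

theorem fp_reverse {p : Nat} (hp : p < 31671) {v : List Nat} (hv : okW v) : fp (fp p v) v.reverse = p := by
  rw [← fp_append]
  have h := inv_apply_ev (okW_append hv (okW_reverse hv)) ⟨p, hp⟩
  rw [ev_append, ev_reverse, mul_inv_cancel] at h
  simpa using h.symm

theorem InX.back {p : Nat} {v : List Nat} (h : InX X (fp p v)) (hp : p < 31671) (hv : okW v)
    (hX : ev Lg v ∈ X) : InX X p := by
  have := h.move (okW_reverse hv) (by rw [ev_reverse]; exact inv_mem hX)
  rwa [fp_reverse hp hv] at this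

/-- A subgroup containing the orbit generators sees only the orbit of a point. -/
theorem orbit_rep (hX : ∀ p, ev Lg (gw p) ∈ X) :
    ∀ d p, p < 31671 → dep p = d → lab p < 6 ∧ (InX X p ↔ InX X (reps.getD (lab p) 0)) := by
  intro d
  induction d using Nat.strong_induction_on with
  | _ d ih =>
    intro p hp hd
    have h := chk_all p hp
    rcases hb : Nat.beq (dep p) 0 with _ | _
    · rw [chk, hb, cond_false, cond_false_eq_true] at h
      obtain ⟨h1, h2⟩ := h
      have hq := fp_lt hp (okW_gw p)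
      obtain ⟨hl, he⟩ := ih _ (hd ▸ Nat.ble_eq.mp h1) _ hq rfl
      rw [Nat.eq_of_beq_eq_true h2] at hl he
      exact ⟨hl, ⟨fun hi => he.mp (hi.move (okW_gw p) (hX p)), fun hi => (he.mpr hi).back hp (okW_gw p) (hX p)⟩⟩
    · rw [chk, hb, cond_true, cond_false_eq_true] at h
      obtain ⟨h1, h2⟩ := h
      rw [Nat.eq_of_beq_eq_true h2]
      exact ⟨Nat.ble_eq.mp h1, Iff.rfl⟩

/-! ### Maximality -/

theorem inX_zero (h : τ 0 0 ∈ X) : InX X 0 := by
  refine ⟨pathA ++ path 0 0, okW_append okW_pathA (okW_path 0 0), Nat.eq_of_beq_eq_true point_zero, ?_⟩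
  rwa [← mem0_eq]

theorem mem_N0_of_conj {g : Fi} (h : g * xe * g⁻¹ ∈ X0) : g ∈ N0 := by
  have hmap : X0.map (MulAut.conj g).toMonoidHom = X0 := by
    refine Subgroup.eq_of_le_of_card_ge ?_ (le_of_eq ?_)
    · rw [X0, MonoidHom.map_zpowers, Subgroup.zpowers_le]
      exact h
    · rw [Subgroup.card_map_of_injective (MulAut.conj g).injective]
  refine Subgroup.mem_normalizer_iff.mpr fun z => ⟨fun hz => ?_, fun hz => ?_⟩
  · rw [← hmap]
    exact ⟨z, hz, rfl⟩
  · rw [← hmap] at hz
    obtain ⟨y, hy, e⟩ := hz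
    have e' : g * y * g⁻¹ = g * z * g⁻¹ := e
    rwa [← conj_inj e']

/-- An element outside the normaliser moves some member off the subgroup. -/
theorem exists_moved {g : Fi} (hg : g ∉ N0) :
    ∃ k a, ¬ Commute xe (g * τ k a * g⁻¹) := by
  by_contra hno
  push Not at hno
  have h : g⁻¹ * xe * g⁻¹⁻¹ ∈ X0 := mem_X0_of_fix fun k a => by
    have := (Commute.conj_iff g⁻¹).mpr (hno k a)
    simpa [mul_assoc] using this
  exact hg (inv_inv g ▸ inv_mem (mem_N0_of_conj h))

theorem okW_gW : okW gW := okW_of gW_ok List.mem_cons_self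

theorem okW_sW : okW sW := okW_of gW_ok (List.mem_cons_of_mem _ List.mem_cons_self)

theorem gW_mem : ev Lg gW ∈ N0 := by
  refine mem_N0_of_conj ?_
  have h := eq_of_same gW_x
  rw [ev_append, ev_append, ev_reverse, Loc.ev_rep] at h
  rw [show ev Lg gW * xe * (ev Lg gW)⁻¹ = xe ^ 2 from h]
  exact pow_mem (Subgroup.mem_zpowers xe) _

theorem sW_mem : ev Lg sW ∈ N0 := by
  refine mem_N0_of_conj ?_
  rcases sW_x with h | h
  · have h' := eq_of_same h
    rw [ev_append, ev_append, ev_reverse] at h'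
    rw [show ev Lg sW * xe * (ev Lg sW)⁻¹ = xe from h']
    exact Subgroup.mem_zpowers xe
  · have h' := eq_of_same h
    rw [ev_append, ev_append, ev_reverse, Loc.ev_rep] at h'
    rw [show ev Lg sW * xe * (ev Lg sW)⁻¹ = xe ^ 2 from h']
    exact pow_mem (Subgroup.mem_zpowers xe) _

/-- The normaliser is maximal. -/
theorem N0_isCoatom : IsCoatom N0 := by
  haveI := isSimple
  refine ⟨fun htop => ?_, fun X hX => ?_⟩
  · have hn : (X0 : Subgroup Fi).Normal := Subgroup.normalizer_eq_top_iff.mp htop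
    rcases hn.eq_bot_or_eq_top with h | h
    · exact x_ne (Subgroup.zpowers_eq_bot.mp h)
    · have hc := card_X0
      rw [h, Subgroup.card_top, card_and_injective.1] at hc
      norm_num at hc
  obtain ⟨hle, g, hgX, hgN⟩ := SetLike.lt_iff_le_and_exists.mp hX
  have hgens : ∀ p, ev Lg (gw p) ∈ X := fun p => hle (mem_N0_of_commute (gw_commute p).symm)
  have hcent : ∀ p, ev Lg (gw p) ∈ Subgroup.centralizer ({xe} : Set Fi) := fun p =>
    Subgroup.mem_centralizer_singleton_iff.mpr (gw_commute p).symm.eq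
  obtain ⟨k, a, hk⟩ := exists_moved hgN
  obtain ⟨w, hw, hd⟩ := mem_class ((τ_mem k a : IsConj t (τ k a)).trans (isConj_iff.mpr ⟨g, rfl⟩))
  have hp : fp 0 w < 31671 := by rw [← pt_val hw]; exact Fin.is_lt _
  have hin : InX X (fp 0 w) := ⟨w, hw, rfl, by rw [hd]; exact mul_mem (mul_mem hgX (hle (τ_mem_N0 k a))) (inv_mem hgX)⟩
  obtain ⟨hlab, hiff⟩ := orbit_rep hgens _ _ hp rfl
  have hne : lab (fp 0 w) ≠ 0 := by
    intro h0
    obtain ⟨-, hiff'⟩ := orbit_rep hcent _ _ hp rfl
    rw [h0, show reps.getD 0 0 = 0 by decide +kernel] at hiff'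
    have hmem := (hiff'.mpr (inX_zero (Subgroup.mem_centralizer_singleton_iff.mpr (τ_x 0 0).symm.eq))).tau_mem' hw rfl
    rw [hd, Subgroup.mem_centralizer_singleton_iff] at hmem
    exact hk hmem.symm
  -- spreading over the orbits
  have hrepiff : ∀ q, q < 31671 → ∀ j, lab q = j → (InX X q ↔ InX X (reps.getD j 0)) := fun q hq j hj =>
    hj ▸ (orbit_rep hgens _ _ hq rfl).2
  have hstep : ∀ i : Fin 4, InX X (reps.getD (i.val + 2) 0) → InX X (reps.getD ([4, 2, 5, 3].getD i.val 0) 0) :=
    fun i hi => (hrepiff _ (fp_lt (reps_lt ⟨i.val + 2, by omega⟩) okW_gW) _ (cycle_check i)).mp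
      (hi.move okW_gW (hle gW_mem))
  have h0 : InX X (reps.getD 0 0) := by
    rw [show reps.getD 0 0 = 0 by decide +kernel]
    exact inX_zero (hle (τ_mem_N0 0 0))
  have hedge : ∀ i b li j, edgeOK i b li j = true → InX X (reps.getD i 0) → InX X (reps.getD li 0) →
      InX X (reps.getD j 0) := by
    intro i b li j h hi hl
    simp only [edgeOK, cond_false_eq_true] at h
    obtain ⟨hb, hbl, hr, hj⟩ := h
    have hb' : b < 31671 := Nat.ble_eq.mp hb
    have hokw : okW (repW.getD i []) := fun l hl => len_Lg.symm ▸ letters_getD repW_ok i l hl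
    have hbX := (hrepiff b hb' _ (Nat.eq_of_beq_eq_true hbl)).mpr hl
    have ht : ev Lg (tauW (repW.getD i [])) ∈ X := hi.tau_mem' hokw (Nat.eq_of_beq_eq_true hr)
    exact (hrepiff _ (fp_lt hb' (okW_tauW hokw)) _ (Nat.eq_of_beq_eq_true hj)).mp (hbX.move (okW_tauW hokw) ht)
  have h24 := hstep 0
  have h32 := hstep 1
  have h45 := hstep 2
  have h53 := hstep 3
  simp only [List.getD_cons_zero, List.getD_cons_succ, Fin.val_zero, Fin.val_one, Fin.val_two,
    show ((3 : Fin 4) : Nat) = 3 from rfl, Nat.reduceAdd] at h24 h32 h45 h53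
  have hone : InX X (reps.getD 1 0) → InX X (reps.getD 2 0) := fun h1 => hedge 1 _ _ _ edge_one h1 h1
  have htwo : InX X (reps.getD 2 0) → InX X (reps.getD 1 0) := fun h2 => hedge 2 _ _ _ edge_two h2 (h24 h2)
  have hrep : InX X (reps.getD 2 0) := by
    have hi := hiff.mp hin
    revert hne hi
    generalize lab (fp 0 w) = i at hlab
    intro hne hi
    interval_cases i
    · exact absurd rfl hne
    · exact hone hi
    · exact hi
    · exact h32 hi
    · exact h32 (h53 (h45 hi))
    · exact h32 (h53 hi)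
  have hall : ∀ q, q < 31671 → InX X q := fun q hq => by
    obtain ⟨hl, he⟩ := orbit_rep hgens _ _ hq rfl
    refine he.mpr ?_
    generalize lab q = i at hl
    interval_cases i
    · exact h0
    · exact htwo hrep
    · exact hrep
    · exact h53 (h45 (h24 hrep))
    · exact h24 hrep
    · exact h45 (h24 hrep)
  have hcls : Subgroup.normalClosure ({t} : Set Fi) ≤ X := by
    rw [Subgroup.normalClosure, Subgroup.closure_le]
    intro y hy
    obtain ⟨u, hu, hyu⟩ := Group.mem_conjugatesOfSet_iff.mp hy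
    rw [Set.mem_singleton_iff] at hu
    subst hu
    obtain ⟨v, hv, rfl⟩ := mem_class hyu
    exact (hall _ (by rw [← pt_val hv]; exact Fin.is_lt _)).tau_mem' hv rfl
  rcases (Subgroup.normalClosure_normal : (Subgroup.normalClosure ({t} : Set Fi)).Normal).eq_bot_or_eq_top with h | h
  · have : t = 1 := Subgroup.mem_bot.mp (h ▸ Subgroup.subset_normalClosure (Set.mem_singleton t))
    have h2 := orderOf_t
    rw [this, orderOf_one] at h2
    norm_num at h2
  · exact top_le_iff.mp (h ▸ hcls)

end CfsgLib.Coset.Fi23.Max
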